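import Mathlib
import Cfsg.Prelude.Def_KGroupFacts
import Cfsg.Agent.Helper19.TCR.Lab

/-! Schur multipliers of two-generator perfect groups from labelled Todd–Coxeter certificates:
abstract part.

Letters: `0 ↦ a`, `1 ↦ a⁻¹`, `2 ↦ b`, `3 ↦ b⁻¹`; words are lists of letters in the convention
`prodw (l :: w) = prodw w * g l`. -/

set_option autoImplicit false
set_option linter.all false

namespace Cfsg.Agent.Helper19.Schur

open Cfsg.Agent.Helper19.TCS Cfsg.Agent.Helper19.TCL

universe u

section letters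

variable {Γ : Type*} [Group Γ]

/-- the letter assignment of two generators. -/
def gc2 (a b : Γ) (l : ℕ) : Γ :=
  match l with
  | 0 => a
  | 1 => a⁻¹
  | 2 => b
  | 3 => b⁻¹
  | _ => 1

/-- the standard inverse map on letters. -/
def inv4 (l : ℕ) : ℕ :=
  match l with
  | 0 => 1
  | 1 => 0
  | 2 => 3
  | 3 => 2
  | _ => l

theorem gc2_inv (a b : Γ) : ∀ l, l < 4 → gc2 a b (inv4 l) = (gc2 a b l)⁻¹ := by
  intro l hl
  interval_cases l <;> simp [gc2, inv4]

theorem map_gc2 {Δ : Type*} [Group Δ] (f : Γ →* Δ) (a b : Γ) (l : ℕ) :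
    f (gc2 a b l) = gc2 (f a) (f b) l := by
  unfold gc2
  split <;> simp

theorem map_prodw {Δ : Type*} [Group Δ] (f : Γ →* Δ) (a b : Γ) (w : List ℕ) :
    f (prodw (gc2 a b) w) = prodw (gc2 (f a) (f b)) w := by
  induction w with
  | nil => simp [prodw]
  | cons l w ih => rw [prodw, prodw, map_mul, ih, map_gc2]

theorem closure_gc2 (a b : Γ) :
    Subgroup.closure {g : Γ | ∃ l, l < 4 ∧ g = gc2 a b l} = Subgroup.closure {a, b} := by
  apply le_antisymm
  · rw [Subgroup.closure_le]
    rintro _ ⟨l, hl, rfl⟩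
    have ha : a ∈ Subgroup.closure ({a, b} : Set Γ) := Subgroup.subset_closure (by simp)
    have hb : b ∈ Subgroup.closure ({a, b} : Set Γ) := Subgroup.subset_closure (by simp)
    interval_cases l
    · exact ha
    · exact inv_mem ha
    · exact hb
    · exact inv_mem hb
  · rw [Subgroup.closure_le]
    rintro g hg
    rcases hg with rfl | rfl
    · exact Subgroup.subset_closure ⟨0, by norm_num, rfl⟩
    · exact Subgroup.subset_closure ⟨2, by norm_num, rfl⟩

/-- exponent sum of the first generator. -/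
def es0 : List ℕ → ℤ
  | [] => 0
  | l :: w => es0 w + (if l = 0 then 1 else if l = 1 then -1 else 0)

/-- exponent sum of the second generator. -/
def es1 : List ℕ → ℤ
  | [] => 0
  | l :: w => es1 w + (if l = 2 then 1 else if l = 3 then -1 else 0)

theorem gc2_central_mul (a b u v : Γ) (hu : ∀ g, Commute u g) (hv : ∀ g, Commute v g) (l : ℕ) :
    gc2 (a * u) (b * v) l = gc2 a b l *
      (u ^ (if l = 0 then (1 : ℤ) else if l = 1 then -1 else 0) *
        v ^ (if l = 2 then (1 : ℤ) else if l = 3 then -1 else 0)) := by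
  unfold gc2
  split
  · simp
  · simp [(hu a).eq]
    exact ((hu a⁻¹).inv_left).eq
  · simp
  · simp [(hv b).eq]
    exact ((hv b⁻¹).inv_left).eq
  · rename_i h0 h1 h2 h3
    have e0 : ¬ l = 0 := fun h => h0 h
    have e1 : ¬ l = 1 := fun h => h1 h
    have e2 : ¬ l = 2 := fun h => h2 h
    have e3 : ¬ l = 3 := fun h => h3 h
    simp [e0, e1, e2, e3]

theorem prodw_central_mul (a b u v : Γ) (hu : ∀ g, Commute u g) (hv : ∀ g, Commute v g)
    (w : List ℕ) :
    prodw (gc2 (a * u) (b * v)) w = prodw (gc2 a b) w * (u ^ es0 w * v ^ es1 w) := by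
  induction w with
  | nil => simp [prodw, es0, es1]
  | cons l w ih =>
    rw [prodw, prodw, ih, gc2_central_mul a b u v hu hv, es0, es1, zpow_add, zpow_add]
    have c1 : ∀ (n : ℤ) g, Commute (u ^ n) g := fun n g => (hu g).zpow_left n
    have c2 : ∀ (n : ℤ) g, Commute (v ^ n) g := fun n g => (hv g).zpow_left n
    set p := prodw (gc2 a b) w
    set A := u ^ es0 w
    set A' := u ^ (if l = 0 then (1 : ℤ) else if l = 1 then -1 else 0)
    set B := v ^ es1 w
    set B' := v ^ (if l = 2 then (1 : ℤ) else if l = 3 then -1 else 0)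
    have hA : ∀ g, Commute A g := c1 _
    have hA' : ∀ g, Commute A' g := c1 _
    have hB : ∀ g, Commute B g := c2 _
    have hB' : ∀ g, Commute B' g := c2 _
    calc p * (A * B) * (gc2 a b l * (A' * B'))
        = p * (gc2 a b l * (A * B)) * (A' * B') := by
          rw [mul_assoc p, ← mul_assoc (A * B), ((hA (gc2 a b l)).mul_left (hB (gc2 a b l))).eq]
          simp only [mul_assoc]
      _ = p * gc2 a b l * (A * A' * (B * B')) := by
          rw [mul_assoc A, ← mul_assoc A' B, (hA' B).eq]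
          simp only [mul_assoc]

theorem prodw_comm {A : Type*} [CommGroup A] (a b : A) (w : List ℕ) :
    prodw (gc2 a b) w = a ^ es0 w * b ^ es1 w := by
  induction w with
  | nil => simp [prodw, es0, es1]
  | cons l w ih =>
    rw [prodw, ih, es0, es1, zpow_add, zpow_add]
    by_cases h0 : l = 0
    · subst h0; simp [gc2]; exact mul_right_comm _ _ _
    by_cases h1 : l = 1
    · subst h1; simp [gc2]; exact mul_right_comm _ _ _
    by_cases h2 : l = 2
    · subst h2; simp [gc2, mul_assoc]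
    by_cases h3 : l = 3
    · subst h3; simp [gc2, mul_assoc]
    have : gc2 a b l = 1 := by
      unfold gc2
      split <;> first | rfl | omega
    simp [this, h0, h1, h2, h3]

end letters


section free

/-- the free abelian group on `kk` generators, written multiplicatively. -/
abbrev CG (kk : ℕ) : Type := Fin kk → Multiplicative ℤ

/-- the element of `CG kk` of an integer vector. -/
def vecC {kk : ℕ} (v : Fin kk → ℤ) : CG kk := fun c => Multiplicative.ofAdd (v c)

theorem vecC_add {kk : ℕ} (u v : Fin kk → ℤ) : vecC (u + v) = vecC u * vecC v := by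
  funext c; simp [vecC]

theorem vecC_zero {kk : ℕ} : vecC (0 : Fin kk → ℤ) = 1 := by
  funext c; simp [vecC]

theorem vecC_smul {kk : ℕ} (n : ℤ) (v : Fin kk → ℤ) : vecC (n • v) = vecC v ^ n := by
  funext c
  simp only [vecC, Pi.smul_apply, smul_eq_mul, Pi.pow_apply]
  rw [← ofAdd_zsmul, smul_eq_mul]

theorem vecC_sub {kk : ℕ} (u v : Fin kk → ℤ) : vecC (u - v) = vecC u / vecC v := by
  funext c; simp [vecC]

/-- the generators of `CG kk`, indexed by all natural numbers. -/
def genC (kk : ℕ) (c : ℕ) : CG kk :=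
  if h : c < kk then Pi.mulSingle ⟨c, h⟩ (Multiplicative.ofAdd 1) else 1

theorem genC_eq {kk : ℕ} (c : Fin kk) : genC kk c = vecC (Pi.single c 1) := by
  unfold genC
  rw [dif_pos c.2]
  funext i
  by_cases h : i = c
  · subst h; simp [vecC]
  · have : (⟨(c : ℕ), c.2⟩ : Fin kk) = c := rfl
    rw [this, Pi.mulSingle_eq_of_ne h, vecC, Pi.single_eq_of_ne h]
    rfl

/-- the vector of a biased digit list. -/
def digitVec (kk B n : ℕ) (E : List ℕ) : Fin kk → ℤ := fun c => (E.getD c 0 : ℤ) - (n : ℤ) * (B : ℤ)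

theorem dsem_genC_aux (kk B n : ℕ) : ∀ (E : List ℕ) (c0 : ℕ), c0 + E.length = kk →
    dsem (genC kk) B n c0 E = fun i : Fin kk =>
      if c0 ≤ (i : ℕ) then Multiplicative.ofAdd (((E.getD ((i : ℕ) - c0) 0 : ℕ) : ℤ) - (n : ℤ) * (B : ℤ))
      else 1 := by
  intro E
  induction E with
  | nil =>
    intro c0 h
    funext i
    have : ¬ c0 ≤ (i : ℕ) := by have := i.2; simp at h; omega
    rw [dsem, if_neg this]
    rfl
  | cons d E ih =>
    intro c0 h
    rw [dsem, ih (c0 + 1) (by simp at h ⊢; omega)]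
    have hc0 : c0 < kk := by simp at h; omega
    funext i
    rw [Pi.mul_apply, Pi.pow_apply]
    unfold genC
    rw [dif_pos hc0]
    by_cases hi : (i : ℕ) = c0
    · have hi' : i = ⟨c0, hc0⟩ := Fin.ext hi
      subst hi'
      have h1 : ¬ (c0 + 1 ≤ c0) := by omega
      simp only [Pi.mulSingle_eq_same, le_refl, if_true, Nat.sub_self, List.getD_cons_zero]
      rw [if_neg h1, mul_one, ← ofAdd_zsmul, smul_eq_mul, mul_one]
    · have hi' : i ≠ ⟨c0, hc0⟩ := fun h => hi (by rw [h])
      rw [Pi.mulSingle_eq_of_ne hi', one_zpow, one_mul]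
      by_cases h2 : c0 + 1 ≤ (i : ℕ)
      · have h3 : c0 ≤ (i : ℕ) := by omega
        rw [if_pos h2, if_pos h3]
        have : (i : ℕ) - c0 = ((i : ℕ) - (c0 + 1)) + 1 := by omega
        rw [this, List.getD_cons_succ]
      · have h3 : ¬ c0 ≤ (i : ℕ) := by omega
        rw [if_neg h2, if_neg h3]

theorem dsem_genC (kk B n : ℕ) (E : List ℕ) (h : E.length = kk) :
    dsem (genC kk) B n 0 E = vecC (digitVec kk B n E) := by
  rw [dsem_genC_aux kk B n E 0 (by omega)]
  funext i
  simp [vecC, digitVec]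

variable {Γ : Type*} [Group Γ]

/-- the homomorphism from the free abelian group given by a commuting family. -/
theorem iotaC_comm {kk : ℕ} (g : Fin kk → Γ) (hcomm : ∀ i j, Commute (g i) (g j)) :
    Pairwise fun i j : Fin kk => ∀ x y : Multiplicative ℤ,
      Commute (zpowersHom Γ (g i) x) (zpowersHom Γ (g j) y) := by
  intro i j _ x y
  simp only [zpowersHom_apply]
  exact ((hcomm i j).zpow_left _).zpow_right _

noncomputable def iotaC {kk : ℕ} (g : Fin kk → Γ) (hcomm : ∀ i j, Commute (g i) (g j)) : CG kk →* Γ :=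
  MonoidHom.noncommPiCoprod (fun c => zpowersHom Γ (g c)) (iotaC_comm g hcomm)

theorem iotaC_genC {kk : ℕ} (g : Fin kk → Γ) (hcomm : ∀ i j, Commute (g i) (g j)) (c : Fin kk) :
    iotaC g hcomm (genC kk c) = g c := by
  unfold iotaC genC
  rw [dif_pos c.2]
  have : (⟨(c : ℕ), c.2⟩ : Fin kk) = c := rfl
  rw [this, MonoidHom.noncommPiCoprod_mulSingle]
  simp

/-- the value of an integer vector. -/
noncomputable def Psi {kk : ℕ} (g : Fin kk → Γ) (hcomm : ∀ i j, Commute (g i) (g j))
    (v : Fin kk → ℤ) : Γ := iotaC g hcomm (vecC v)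

theorem Psi_add {kk : ℕ} (g : Fin kk → Γ) (hcomm : ∀ i j, Commute (g i) (g j)) (u v : Fin kk → ℤ) :
    Psi g hcomm (u + v) = Psi g hcomm u * Psi g hcomm v := by
  unfold Psi; rw [vecC_add, map_mul]

theorem Psi_zero {kk : ℕ} (g : Fin kk → Γ) (hcomm : ∀ i j, Commute (g i) (g j)) :
    Psi g hcomm 0 = 1 := by
  unfold Psi; rw [vecC_zero, map_one]

theorem Psi_smul {kk : ℕ} (g : Fin kk → Γ) (hcomm : ∀ i j, Commute (g i) (g j)) (n : ℤ)
    (v : Fin kk → ℤ) : Psi g hcomm (n • v) = Psi g hcomm v ^ n := by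
  unfold Psi; rw [vecC_smul, map_zpow]

theorem Psi_neg {kk : ℕ} (g : Fin kk → Γ) (hcomm : ∀ i j, Commute (g i) (g j))
    (v : Fin kk → ℤ) : Psi g hcomm (-v) = (Psi g hcomm v)⁻¹ := by
  have := Psi_smul g hcomm (-1) v
  simpa using this

theorem Psi_sub {kk : ℕ} (g : Fin kk → Γ) (hcomm : ∀ i j, Commute (g i) (g j)) (u v : Fin kk → ℤ) :
    Psi g hcomm (u - v) = Psi g hcomm u * (Psi g hcomm v)⁻¹ := by
  rw [sub_eq_add_neg, Psi_add, Psi_neg]

theorem Psi_single {kk : ℕ} (g : Fin kk → Γ) (hcomm : ∀ i j, Commute (g i) (g j)) (c : Fin kk) :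
    Psi g hcomm (Pi.single c 1) = g c := by
  unfold Psi; rw [← genC_eq, iotaC_genC]

theorem Psi_sum {kk s : ℕ} (g : Fin kk → Γ) (hcomm : ∀ i j, Commute (g i) (g j))
    (cf : Fin s → ℤ) (lam : Fin s → Fin kk → ℤ) (h : ∀ j, Psi g hcomm (lam j) = 1) :
    Psi g hcomm (∑ j, cf j • lam j) = 1 := by
  have key : ∀ (S : Finset (Fin s)), Psi g hcomm (∑ j ∈ S, cf j • lam j) = 1 := by
    intro S
    induction S using Finset.induction_on with
    | empty => simp [Psi_zero]
    | insert a S ha ih => rw [Finset.sum_insert ha, Psi_add, Psi_smul, h, one_zpow, ih, one_mul]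
  exact key _

/-- `Psi v` lies in any subgroup containing the generators with nonzero coefficient. -/
theorem Psi_mem {kk : ℕ} (g : Fin kk → Γ) (hcomm : ∀ i j, Commute (g i) (g j)) (K : Subgroup Γ)
    (v : Fin kk → ℤ) (h : ∀ c, v c ≠ 0 → g c ∈ K) : Psi g hcomm v ∈ K := by
  unfold Psi iotaC
  rw [MonoidHom.noncommPiCoprod_apply]
  apply Subgroup.noncommProd_mem
  intro c _
  simp only [zpowersHom_apply, vecC, toAdd_ofAdd]
  by_cases hc : v c = 0
  · rw [hc, zpow_zero]; exact K.one_mem
  · exact K.zpow_mem (h c hc) _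

end free


end Cfsg.Agent.Helper19.Schur
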