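import Mathlib
import Cfsg.Prelude.Def_KGroupFacts
import Cfsg.Agent.Helper19.Schur.Basic

/-! Schur multipliers of two-generator perfect groups from labelled Todd–Coxeter certificates:
the abstract theorems on stem extensions. -/

set_option autoImplicit false
set_option linter.all false

namespace Cfsg.Agent.Helper19.Schur

open Cfsg.Agent.Helper19.TCS Cfsg.Agent.Helper19.TCL
open scoped commutatorElement

universe u

section stem

variable {Γ G : Type*} [Group Γ] [Group G]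

theorem commutator_mul_central_left (g h k : Γ) (hk : ∀ x, k * x = x * k) : ⁅g * k, h⁆ = ⁅g, h⁆ := by
  rw [commutatorElement_def, commutatorElement_def, mul_inv_rev]
  have : g * k * h * (k⁻¹ * g⁻¹) = g * h * g⁻¹ := by
    calc g * k * h * (k⁻¹ * g⁻¹) = g * (k * h) * k⁻¹ * g⁻¹ := by group
      _ = g * (h * k) * k⁻¹ * g⁻¹ := by rw [hk h]
      _ = g * h * g⁻¹ := by group
  rw [this]

theorem commutator_mul_central_right (g h k : Γ) (hk : ∀ x, k * x = x * k) : ⁅g, h * k⁆ = ⁅g, h⁆ := by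
  rw [commutatorElement_def, commutatorElement_def, mul_inv_rev]
  have : g * (h * k) * g⁻¹ * (k⁻¹ * h⁻¹) = g * h * g⁻¹ * h⁻¹ := by
    calc g * (h * k) * g⁻¹ * (k⁻¹ * h⁻¹) = g * h * (k * g⁻¹) * k⁻¹ * h⁻¹ := by group
      _ = g * h * (g⁻¹ * k) * k⁻¹ * h⁻¹ := by rw [hk g⁻¹]
      _ = g * h * g⁻¹ * h⁻¹ := by group
  rw [this]

/-- lifts of generators generate a stem extension. -/
theorem closure_eq_top_of_stem (σ : Γ →* G) (hc : σ.ker ≤ Subgroup.center Γ)
    (hk : σ.ker ≤ commutator Γ) (a b : Γ)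
    (hgen : Subgroup.closure {σ a, σ b} = (⊤ : Subgroup G)) :
    Subgroup.closure {a, b} = (⊤ : Subgroup Γ) := by
  set Γ0 := Subgroup.closure ({a, b} : Set Γ) with hΓ0
  have hmap : Γ0.map σ = ⊤ := by
    rw [hΓ0, MonoidHom.map_closure, Set.image_pair, hgen]
  have hdecomp : ∀ g : Γ, ∃ g0 ∈ Γ0, g0⁻¹ * g ∈ σ.ker := by
    intro g
    have : σ g ∈ Γ0.map σ := by rw [hmap]; trivial
    obtain ⟨g0, hg0, h⟩ := this
    exact ⟨g0, hg0, by rw [MonoidHom.mem_ker, map_mul, map_inv, h, inv_mul_cancel]⟩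
  have hcomm : commutator Γ ≤ Γ0 := by
    rw [commutator_def, Subgroup.commutator_le]
    intro g _ h _
    obtain ⟨g0, hg0, hgk⟩ := hdecomp g
    obtain ⟨h0, hh0, hhk⟩ := hdecomp h
    have hk1 : ∀ x, (g0⁻¹ * g) * x = x * (g0⁻¹ * g) := fun x =>
      ((Subgroup.mem_center_iff.mp (hc hgk)) x).symm
    have hk2 : ∀ x, (h0⁻¹ * h) * x = x * (h0⁻¹ * h) := fun x =>
      ((Subgroup.mem_center_iff.mp (hc hhk)) x).symm
    have e1 : g = g0 * (g0⁻¹ * g) := by group
    have e2 : h = h0 * (h0⁻¹ * h) := by group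
    rw [e1, e2, commutator_mul_central_left _ _ _ hk1, commutator_mul_central_right _ _ _ hk2,
      commutatorElement_def]
    exact Γ0.mul_mem (Γ0.mul_mem (Γ0.mul_mem hg0 hh0) (Γ0.inv_mem hg0)) (Γ0.inv_mem hh0)
  rw [eq_top_iff]
  intro g _
  obtain ⟨g0, hg0, hgk⟩ := hdecomp g
  have : g = g0 * (g0⁻¹ * g) := by group
  rw [this]
  exact Γ0.mul_mem hg0 (hcomm (hk hgk))

/-- if the quotient by a normal subgroup `K ≤ ker σ` has at most `|G|` elements, then
`ker σ ≤ K`. -/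
theorem ker_le_of_card_quotient_le [Finite G] (σ : Γ →* G) (hσ : Function.Surjective σ)
    (K : Subgroup Γ) [K.Normal] (hK : K ≤ σ.ker) (hfin : Finite (Γ ⧸ K))
    (hcard : Nat.card (Γ ⧸ K) ≤ Nat.card G) : σ.ker ≤ K := by
  let σ' : Γ ⧸ K →* G := QuotientGroup.lift K σ (fun g hg => MonoidHom.mem_ker.mp (hK hg))
  have hs : Function.Surjective σ' := by
    intro g
    obtain ⟨γ, rfl⟩ := hσ g
    exact ⟨QuotientGroup.mk γ, rfl⟩
  have hb : Function.Bijective σ' := hs.bijective_of_nat_card_le hcard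
  intro γ hγ
  have h1 : σ' (QuotientGroup.mk γ) = σ' 1 := by
    rw [map_one]
    exact MonoidHom.mem_ker.mp hγ
  have h2 := hb.1 h1
  exact (QuotientGroup.eq_one_iff γ).mp h2

/-- a subgroup of the centre is normal. -/
theorem normal_of_le_center' (K : Subgroup Γ) (h : K ≤ Subgroup.center Γ) : K.Normal := by
  refine ⟨fun n hn g => ?_⟩
  have := (Subgroup.mem_center_iff.mp (h hn)) g
  rw [this, mul_inv_cancel_right]
  exact hn

end stem


section lattice

variable {kk : ℕ}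

/-- the linear functional with coefficient vector `e`. -/
def Efun (e v : Fin kk → ℤ) : ℤ := ∑ c, v c * e c

theorem Efun_add (e u v : Fin kk → ℤ) : Efun e (u + v) = Efun e u + Efun e v := by
  simp [Efun, add_mul, Finset.sum_add_distrib]

theorem Efun_zero (e : Fin kk → ℤ) : Efun e 0 = 0 := by
  simp [Efun]

theorem Efun_neg (e v : Fin kk → ℤ) : Efun e (-v) = - Efun e v := by
  simp [Efun]

theorem Efun_sub (e u v : Fin kk → ℤ) : Efun e (u - v) = Efun e u - Efun e v := by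
  simp [Efun, sub_mul, Finset.sum_sub_distrib]

theorem Efun_smul (e v : Fin kk → ℤ) (n : ℤ) : Efun e (n • v) = n * Efun e v := by
  simp [Efun, Finset.mul_sum, mul_assoc]

theorem Efun_single (e : Fin kk → ℤ) (c : Fin kk) : Efun e (Pi.single c 1) = e c := by
  unfold Efun
  rw [Finset.sum_eq_single c]
  · simp
  · intro b _ hb
    rw [Pi.single_eq_of_ne hb, zero_mul]
  · intro h
    exact absurd (Finset.mem_univ c) h

end lattice


section main

variable {Γ : Type*} [Group Γ]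

/-- the family `(a, r₀, r₁, …)` of the first generator and the relator values. -/
def gfam (a b : Γ) (rels : List (List ℕ)) (kk : ℕ) (c : Fin kk) : Γ :=
  if (c : ℕ) = 0 then a else prodw (gc2 a b) (rels.getD ((c : ℕ) - 1) [])

theorem gfam_comm (a b : Γ) (rels : List (List ℕ)) (kk : ℕ)
    (hcen : ∀ ρ g, Commute (prodw (gc2 a b) (rels.getD ρ [])) g) :
    ∀ i j, Commute (gfam a b rels kk i) (gfam a b rels kk j) := by
  intro i j
  unfold gfam
  by_cases hi : (i : ℕ) = 0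
  · by_cases hj : (j : ℕ) = 0
    · rw [if_pos hi, if_pos hj]
    · rw [if_neg hj]
      exact (hcen _ _).symm
  · rw [if_neg hi]
    exact hcen _ _

theorem forall_getD_of_forall_mem {α : Type*} (P : α → Prop) (l : List α) (d : α)
    (h : ∀ w ∈ l, P w) (hd : P d) : ∀ ρ, P (l.getD ρ d) := by
  intro ρ
  by_cases hρ : ρ < l.length
  · rw [List.getD_eq_getElem _ _ hρ]
    exact h _ (List.getElem_mem _)
  · rw [List.getD_eq_default _ _ (not_lt.mp hρ)]
    exact hd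

/-- the data certifying the upper bound: every finite stem extension has cyclic kernel generated
by an element of order dividing `d`. -/
theorem exists_surjective_of_stem {G : Type u} [Group G] [Finite G] (x y : G)
    (hxy : Subgroup.closure {x, y} = (⊤ : Subgroup G))
    (rels : List (List ℕ)) (kk : ℕ) (hkk : rels.length + 1 ≤ kk)
    (hrel : ∀ w ∈ rels, prodw (gc2 x y) w = 1)
    (hT1 : ∀ (Δ : Type u) [Group Δ] (a b : Δ), Subgroup.closure {a, b} = (⊤ : Subgroup Δ) →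
      (∀ w ∈ rels, prodw (gc2 a b) w = 1) → Finite Δ ∧ Nat.card Δ ≤ Nat.card G)
    (s : ℕ) (lam : Fin s → Fin kk → ℤ)
    (hT2 : ∀ (Δ : Type u) [Group Δ] (a b : Δ)
      (hcen : ∀ ρ g, Commute (prodw (gc2 a b) (rels.getD ρ [])) g) (j : Fin s),
      Psi (gfam a b rels kk) (gfam_comm a b rels kk hcen) (lam j) = 1)
    (e1 e2 : Fin kk → ℤ)
    (he1 : ∀ c : Fin kk, e1 c = if (c : ℕ) = 0 then 0 else es0 (rels.getD ((c : ℕ) - 1) []))
    (he2 : ∀ c : Fin kk, e2 c = if (c : ℕ) = 0 then 0 else es1 (rels.getD ((c : ℕ) - 1) []))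
    (c1 c2 g0 : Fin kk → ℤ) (d : ℕ)
    (hc1 : (∀ c : Fin kk, (c : ℕ) = 0 → c1 c = 0) ∧ Efun e1 c1 = 1 ∧ Efun e2 c1 = 0)
    (hc2 : (∀ c : Fin kk, (c : ℕ) = 0 → c2 c = 0) ∧ Efun e1 c2 = 0 ∧ Efun e2 c2 = 1)
    (hg0 : ∀ c : Fin kk, (c : ℕ) = 0 → g0 c = 0)
    (hL1 : ∀ v : Fin kk → ℤ, (∀ c : Fin kk, (c : ℕ) = 0 → v c = 0) → Efun e1 v = 0 → Efun e2 v = 0 →
      ∃ (cf : Fin s → ℤ) (t : ℤ), v = ∑ j, cf j • lam j + t • g0)
    (hL2 : ∃ cf : Fin s → ℤ, (d : ℤ) • g0 = ∑ j, cf j • lam j) :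
    ∀ (Γ : Type u) [Group Γ] [Finite Γ] (σ : Γ →* G), Cfsg.IsStemExtension σ →
      ∃ π : Multiplicative (ZMod d) →* σ.ker, Function.Surjective π := by
  intro Γ _ _ σ hσ
  obtain ⟨hsurj, hcenter, hcommu⟩ := hσ
  obtain ⟨a0, ha0⟩ := hsurj x
  obtain ⟨b0, hb0⟩ := hsurj y
  -- relator values of the lifts lie in the kernel
  have hker0 : ∀ ρ, prodw (gc2 a0 b0) (rels.getD ρ []) ∈ σ.ker := by
    apply forall_getD_of_forall_mem (fun w => prodw (gc2 a0 b0) w ∈ σ.ker)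
    · intro w hw
      rw [MonoidHom.mem_ker, map_prodw, ha0, hb0]
      exact hrel w hw
    · exact σ.ker.one_mem
  have hcenK : ∀ k ∈ σ.ker, ∀ g, Commute k g := fun k hk g =>
    ((Subgroup.mem_center_iff.mp (hcenter hk)) g).symm
  have hcen0 : ∀ ρ g, Commute (prodw (gc2 a0 b0) (rels.getD ρ [])) g := fun ρ g =>
    hcenK _ (hker0 ρ) g
  have hgc := gfam_comm a0 b0 rels kk hcen0
  set Ψ : (Fin kk → ℤ) → Γ := Psi (gfam a0 b0 rels kk) hgc with hΨ
  have hΨker : ∀ v : Fin kk → ℤ, (∀ c : Fin kk, (c : ℕ) = 0 → v c = 0) → Ψ v ∈ σ.ker := by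
    intro v hv
    apply Psi_mem
    intro c hc
    have hc0 : (c : ℕ) ≠ 0 := fun h => hc (hv c h)
    unfold gfam
    rw [if_neg hc0]
    exact hker0 _
  have hΨrel : ∀ j, Ψ (lam j) = 1 := fun j => hT2 Γ a0 b0 hcen0 j
  -- the corrected lifts
  set u : Γ := (Ψ c1)⁻¹ with hu
  set v : Γ := (Ψ c2)⁻¹ with hv
  have huK : u ∈ σ.ker := σ.ker.inv_mem (hΨker c1 hc1.1)
  have hvK : v ∈ σ.ker := σ.ker.inv_mem (hΨker c2 hc2.1)
  have hσa : σ (a0 * u) = x := by rw [map_mul, MonoidHom.mem_ker.mp huK, mul_one, ha0]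
  have hσb : σ (b0 * v) = y := by rw [map_mul, MonoidHom.mem_ker.mp hvK, mul_one, hb0]
  have hgen : Subgroup.closure {a0 * u, b0 * v} = (⊤ : Subgroup Γ) := by
    apply closure_eq_top_of_stem σ hcenter hcommu
    rw [hσa, hσb, hxy]
  -- the subgroup K1
  let K1 : Subgroup Γ :=
    { carrier := {γ | ∃ w : Fin kk → ℤ, (∀ c : Fin kk, (c : ℕ) = 0 → w c = 0) ∧ Efun e1 w = 0 ∧
        Efun e2 w = 0 ∧ Ψ w = γ}
      mul_mem' := by
        rintro _ _ ⟨w1, h1, h2, h3, rfl⟩ ⟨w2, k1, k2, k3, rfl⟩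
        refine ⟨w1 + w2, ?_, ?_, ?_, Psi_add _ _ _ _⟩
        · intro c hc
          rw [Pi.add_apply, h1 c hc, k1 c hc, add_zero]
        · rw [Efun_add, h2, k2, add_zero]
        · rw [Efun_add, h3, k3, add_zero]
      one_mem' := ⟨0, fun c _ => rfl, Efun_zero _, Efun_zero _, Psi_zero _ _⟩
      inv_mem' := by
        rintro _ ⟨w1, h1, h2, h3, rfl⟩
        refine ⟨-w1, ?_, ?_, ?_, Psi_neg _ _ _⟩
        · intro c hc
          rw [Pi.neg_apply, h1 c hc, neg_zero]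
        · rw [Efun_neg, h2, neg_zero]
        · rw [Efun_neg, h3, neg_zero] }
  have hK1ker : K1 ≤ σ.ker := by
    rintro _ ⟨w, h1, -, -, rfl⟩
    exact hΨker w h1
  haveI hK1n : K1.Normal := normal_of_le_center' K1 (hK1ker.trans hcenter)
  -- the relator values of the corrected lifts lie in K1
  have hrelK1 : ∀ w ∈ rels, prodw (gc2 (a0 * u) (b0 * v)) w ∈ K1 := by
    intro w hw
    obtain ⟨ρ, hρ, rfl⟩ := List.getElem_of_mem hw
    rw [prodw_central_mul a0 b0 u v (hcenK u huK) (hcenK v hvK)]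
    have hρk : ρ + 1 < kk := by omega
    set c : Fin kk := ⟨ρ + 1, hρk⟩ with hc
    have hcne : ((c : Fin kk) : ℕ) ≠ 0 := by simp [hc]
    have hgetD : rels.getD ((c : ℕ) - 1) [] = rels[ρ] := by
      have : ((c : Fin kk) : ℕ) - 1 = ρ := by simp [hc]
      rw [this, List.getD_eq_getElem _ _ hρ]
    have hval : prodw (gc2 a0 b0) rels[ρ] = Ψ (Pi.single c 1) := by
      rw [hΨ, Psi_single]
      unfold gfam
      rw [if_neg hcne, hgetD]
    refine ⟨Pi.single c 1 - es0 rels[ρ] • c1 - es1 rels[ρ] • c2, ?_, ?_, ?_, ?_⟩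
    · intro c' hc'
      have hne : c' ≠ c := by
        intro h
        rw [h] at hc'
        exact hcne hc'
      simp only [Pi.sub_apply, Pi.smul_apply, smul_eq_mul]
      rw [Pi.single_eq_of_ne hne, hc1.1 c' hc', hc2.1 c' hc']
      ring
    · rw [Efun_sub, Efun_sub, Efun_smul, Efun_smul, Efun_single, hc1.2.1, hc2.2.1, he1 c,
        if_neg hcne, hgetD]
      ring
    · rw [Efun_sub, Efun_sub, Efun_smul, Efun_smul, Efun_single, hc1.2.2, hc2.2.2, he2 c,
        if_neg hcne, hgetD]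
      ring
    · rw [hΨ, Psi_sub, Psi_sub, Psi_smul, Psi_smul, ← hΨ, ← hval, hu, hv, inv_zpow, inv_zpow,
        mul_assoc]
  -- the quotient by K1 is a quotient of G
  have hquot : Finite (Γ ⧸ K1) ∧ Nat.card (Γ ⧸ K1) ≤ Nat.card G := by
    apply hT1 (Γ ⧸ K1) (QuotientGroup.mk' K1 (a0 * u)) (QuotientGroup.mk' K1 (b0 * v))
    · have h1 : (Subgroup.closure ({a0 * u, b0 * v} : Set Γ)).map (QuotientGroup.mk' K1) = ⊤ := by
        rw [hgen]
        exact Subgroup.map_top_of_surjective _ (QuotientGroup.mk'_surjective K1)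
      rw [MonoidHom.map_closure, Set.image_pair] at h1
      exact h1
    · intro w hw
      rw [← map_prodw]
      exact (QuotientGroup.eq_one_iff _).mpr (hrelK1 w hw)
  have hkerK1 : σ.ker ≤ K1 := ker_le_of_card_quotient_le σ hsurj K1 hK1ker hquot.1 hquot.2
  -- the kernel is generated by κ
  set κ : Γ := Ψ g0 with hκ
  have hκker : κ ∈ σ.ker := hΨker g0 hg0
  have hκd : κ ^ d = 1 := by
    obtain ⟨cf, hcf⟩ := hL2
    have h1 : Ψ ((d : ℤ) • g0) = κ ^ d := by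
      rw [hΨ, Psi_smul, zpow_natCast]
    rw [← h1, hcf, hΨ]
    exact Psi_sum _ _ cf lam hΨrel
  have hcyc : ∀ γ ∈ σ.ker, ∃ t : ℤ, γ = κ ^ t := by
    intro γ hγ
    obtain ⟨w, h1, h2, h3, rfl⟩ := hkerK1 hγ
    obtain ⟨cf, t, hw⟩ := hL1 w h1 h2 h3
    refine ⟨t, ?_⟩
    rw [hw, hΨ, Psi_add, Psi_smul, Psi_sum _ _ cf lam hΨrel, one_mul]
  -- the homomorphism
  let κ' : σ.ker := ⟨κ, hκker⟩
  have hκ'd : κ' ^ d = 1 := Subtype.ext (by simpa using hκd)
  let f : ℤ →+ Additive σ.ker := zmultiplesHom (Additive σ.ker) (Additive.ofMul κ')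
  have hfz : ∀ n : ℤ, f n = Additive.ofMul (κ' ^ n) := by
    intro n
    simp [f, zmultiplesHom_apply]
  have hf : f (d : ℤ) = 0 := by
    rw [hfz, zpow_natCast, hκ'd]
    rfl
  let π0 : ZMod d →+ Additive σ.ker := ZMod.lift d ⟨f, hf⟩
  refine ⟨AddMonoidHom.toMultiplicativeLeft π0, ?_⟩
  rintro ⟨γ, hγ⟩
  obtain ⟨t, ht⟩ := hcyc γ hγ
  refine ⟨Multiplicative.ofAdd (t : ZMod d), ?_⟩
  have h1 : AddMonoidHom.toMultiplicativeLeft π0 (Multiplicative.ofAdd (t : ZMod d)) =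
      (π0 (t : ZMod d)).toMul := rfl
  rw [h1]
  have h2 : π0 (t : ZMod d) = f t := ZMod.lift_coe d ⟨f, hf⟩ t
  rw [h2, hfz]
  apply Subtype.ext
  simp only [toMul_ofMul, Subgroup.coe_zpow]
  exact ht.symm

end main

end Cfsg.Agent.Helper19.Schur
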