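import Mathlib
import Cfsg.Prelude.Def_KGroupFacts
import Cfsg.Agent.Helper19.Schur.Stem

/-! Schur multipliers from labelled Todd–Coxeter certificates: the existence half (a concrete
central extension is a stem extension), transport along isomorphisms, and the bridge from the
generated certificate packages to the hypotheses of the abstract theorems. -/

set_option autoImplicit false
set_option linter.all false

namespace Cfsg.Agent.Helper19.Schur

open Cfsg.Agent.Helper19.TCS Cfsg.Agent.Helper19.TCL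
open scoped commutatorElement

universe u

section exist

/-- a central cyclic subgroup `⟨Z⟩ ≤ ker σ` modulo which the relators hold is the whole kernel. -/
theorem stem_of_central_cyclic {G : Type u} [Group G] [Finite G] (rels : List (List ℕ))
    (hT1 : ∀ (Δ : Type u) [Group Δ] (a b : Δ), Subgroup.closure {a, b} = (⊤ : Subgroup Δ) →
      (∀ w ∈ rels, prodw (gc2 a b) w = 1) → Finite Δ ∧ Nat.card Δ ≤ Nat.card G)
    {Γ : Type u} [Group Γ] (σ : Γ →* G) (hsurj : Function.Surjective σ) (A B Z : Γ)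
    (hgen : Subgroup.closure {A, B} = (⊤ : Subgroup Γ)) (hZker : σ Z = 1) (d : ℕ)
    (hZ : orderOf Z = d) (hZA : Commute Z A) (hZB : Commute Z B)
    (hrel : ∀ w ∈ rels, prodw (gc2 A B) w ∈ Subgroup.zpowers Z)
    (hZc : Z ∈ commutator Γ) :
    Cfsg.IsStemExtension σ ∧ Nonempty (σ.ker ≃* Multiplicative (ZMod d)) := by
  -- Z is central
  have hZcen : Z ∈ Subgroup.center Γ := by
    rw [Subgroup.mem_center_iff]
    intro g
    have hg : g ∈ Subgroup.closure ({A, B} : Set Γ) := by rw [hgen]; trivial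
    have hle : Subgroup.closure ({A, B} : Set Γ) ≤ Subgroup.centralizer {Z} := by
      rw [Subgroup.closure_le]
      rintro g (rfl | rfl)
      · rw [SetLike.mem_coe, Subgroup.mem_centralizer_iff]
        rintro h rfl
        exact hZA.eq
      · rw [SetLike.mem_coe, Subgroup.mem_centralizer_iff]
        rintro h rfl
        exact hZB.eq
    have := Subgroup.mem_centralizer_iff.mp (hle hg) Z rfl
    exact this.symm
  set P : Subgroup Γ := Subgroup.zpowers Z with hP
  have hPcen : P ≤ Subgroup.center Γ := by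
    rw [hP, Subgroup.zpowers_le]; exact hZcen
  have hPker : P ≤ σ.ker := by
    rw [hP, Subgroup.zpowers_le]; exact MonoidHom.mem_ker.mpr hZker
  haveI hPn : P.Normal := normal_of_le_center' P hPcen
  have hquot : Finite (Γ ⧸ P) ∧ Nat.card (Γ ⧸ P) ≤ Nat.card G := by
    apply hT1 (Γ ⧸ P) (QuotientGroup.mk' P A) (QuotientGroup.mk' P B)
    · have h1 : (Subgroup.closure ({A, B} : Set Γ)).map (QuotientGroup.mk' P) = ⊤ := by
        rw [hgen]
        exact Subgroup.map_top_of_surjective _ (QuotientGroup.mk'_surjective P)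
      rw [MonoidHom.map_closure, Set.image_pair] at h1
      exact h1
    · intro w hw
      rw [← map_prodw]
      exact (QuotientGroup.eq_one_iff _).mpr (hrel w hw)
  have hkerP : σ.ker ≤ P := ker_le_of_card_quotient_le σ hsurj P hPker hquot.1 hquot.2
  have hker : σ.ker = P := le_antisymm hkerP hPker
  refine ⟨⟨hsurj, ?_, ?_⟩, ?_⟩
  · rw [hker]; exact hPcen
  · rw [hker, hP, Subgroup.zpowers_le]; exact hZc
  · subst hZ
    rw [hker, hP, ← Nat.card_zpowers]
    have hcyc : IsCyclic ↥(Subgroup.zpowers Z) := inferInstance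
    exact ⟨(zmodCyclicMulEquiv hcyc).symm⟩

/-- generators of a closure generate it. -/
theorem closure_pair_subtype {P : Type*} [Group P] (At Bt : P) :
    Subgroup.closure ({⟨At, Subgroup.subset_closure (by simp)⟩,
      ⟨Bt, Subgroup.subset_closure (by simp)⟩} : Set ↥(Subgroup.closure ({At, Bt} : Set P))) = ⊤ := by
  have h := Subgroup.closure_closure_coe_preimage (k := ({At, Bt} : Set P))
  have hset : ((↑) : ↥(Subgroup.closure ({At, Bt} : Set P)) → P) ⁻¹' ({At, Bt} : Set P) =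
      {⟨At, Subgroup.subset_closure (by simp)⟩, ⟨Bt, Subgroup.subset_closure (by simp)⟩} := by
    ext ⟨g, hg⟩
    simp only [Set.mem_preimage, Set.mem_insert_iff, Set.mem_singleton_iff, Subtype.mk.injEq]
  rw [← hset]
  exact h

/-- a concrete model of a central extension gives the existence half. -/
theorem exists_stem_of_model {G : Type u} [Group G] [Finite G] (x y : G) (rels : List (List ℕ))
    (hT1 : ∀ (Δ : Type u) [Group Δ] (a b : Δ), Subgroup.closure {a, b} = (⊤ : Subgroup Δ) →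
      (∀ w ∈ rels, prodw (gc2 a b) w = 1) → Finite Δ ∧ Nat.card Δ ≤ Nat.card G)
    (hxy : Subgroup.closure {x, y} = (⊤ : Subgroup G))
    {P : Type u} [Group P] [Finite P] (At Bt : P)
    (τ : ↥(Subgroup.closure ({At, Bt} : Set P)) →* G)
    (hτA : τ ⟨At, Subgroup.subset_closure (by simp)⟩ = x)
    (hτB : τ ⟨Bt, Subgroup.subset_closure (by simp)⟩ = y)
    (wz : List ℕ) (d : ℕ) (hZord : orderOf (prodw (gc2 At Bt) wz) = d)
    (hZker : prodw (gc2 x y) wz = 1)
    (hZA : Commute (prodw (gc2 At Bt) wz) At) (hZB : Commute (prodw (gc2 At Bt) wz) Bt)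
    (hrel : ∀ w ∈ rels, prodw (gc2 At Bt) w ∈ Subgroup.zpowers (prodw (gc2 At Bt) wz))
    (wg wh : List ℕ)
    (hcomm : ⁅prodw (gc2 At Bt) wg, prodw (gc2 At Bt) wh⁆ = prodw (gc2 At Bt) wz) :
    ∃ (Γ : Type u) (_ : Group Γ) (_ : Finite Γ) (σ : Γ →* G),
      Cfsg.IsStemExtension σ ∧ Nonempty (σ.ker ≃* Multiplicative (ZMod d)) := by
  have hgen := closure_pair_subtype At Bt
  obtain ⟨A, hA⟩ : ∃ A : ↥(Subgroup.closure ({At, Bt} : Set P)),
      A = ⟨At, Subgroup.subset_closure (by simp)⟩ := ⟨_, rfl⟩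
  obtain ⟨B, hB⟩ : ∃ B : ↥(Subgroup.closure ({At, Bt} : Set P)),
      B = ⟨Bt, Subgroup.subset_closure (by simp)⟩ := ⟨_, rfl⟩
  rw [← hA] at hτA hgen
  rw [← hB] at hτB hgen
  have hAv : (A : P) = At := by rw [hA]
  have hBv : (B : P) = Bt := by rw [hB]
  have hval : ∀ w, ((prodw (gc2 A B) w : ↥(Subgroup.closure ({At, Bt} : Set P))) : P) =
      prodw (gc2 At Bt) w := by
    intro w
    have := map_prodw (Subgroup.closure ({At, Bt} : Set P)).subtype A B w
    simpa [hAv, hBv] using this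
  have hsurj : Function.Surjective τ := by
    rw [← MonoidHom.range_eq_top, eq_top_iff, ← hxy, Subgroup.closure_le]
    rintro g (rfl | rfl)
    · exact ⟨_, hτA⟩
    · exact ⟨_, hτB⟩
  have hZv := hval wz
  have h := stem_of_central_cyclic rels hT1 τ hsurj A B (prodw (gc2 A B) wz) hgen
    (by rw [map_prodw, hτA, hτB]; exact hZker) d
    (by rw [← hZord, ← hZv]; exact (Subgroup.orderOf_coe _).symm)
    (by
      have := hZA.eq
      exact Subtype.ext (by rw [Subgroup.coe_mul, Subgroup.coe_mul, hZv, hAv]; exact this))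
    (by
      have := hZB.eq
      exact Subtype.ext (by rw [Subgroup.coe_mul, Subgroup.coe_mul, hZv, hBv]; exact this))
    (by
      intro w hw
      obtain ⟨k, hk⟩ := Subgroup.mem_zpowers_iff.mp (hrel w hw)
      refine Subgroup.mem_zpowers_iff.mpr ⟨k, Subtype.ext ?_⟩
      rw [Subgroup.coe_zpow, hZv, hk, hval])
    (by
      have hc : ⁅prodw (gc2 A B) wg, prodw (gc2 A B) wh⁆ = prodw (gc2 A B) wz := by
        apply Subtype.ext
        rw [hZv, ← hcomm, commutatorElement_def, commutatorElement_def]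
        simp only [Subgroup.coe_mul, Subgroup.coe_inv, hval]
      rw [← hc]
      exact Subgroup.commutator_mem_commutator (Subgroup.mem_top _) (Subgroup.mem_top _))
  exact ⟨↥(Subgroup.closure ({At, Bt} : Set P)), inferInstance, inferInstance, τ, h⟩

end exist


section transport

theorem ker_comp_mulEquiv' {Γ G G' : Type*} [Group Γ] [Group G] [Group G'] (σ : Γ →* G)
    (e : G ≃* G') : (e.toMonoidHom.comp σ).ker = σ.ker := by
  ext g
  simp [MonoidHom.mem_ker]

theorem isStemExtension_comp_mulEquiv {Γ G G' : Type*} [Group Γ] [Group G] [Group G']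
    (σ : Γ →* G) (e : G ≃* G') (h : Cfsg.IsStemExtension σ) :
    Cfsg.IsStemExtension (e.toMonoidHom.comp σ) := by
  obtain ⟨h1, h2, h3⟩ := h
  refine ⟨?_, ?_, ?_⟩
  · exact e.surjective.comp h1
  · rw [ker_comp_mulEquiv']; exact h2
  · rw [ker_comp_mulEquiv']; exact h3

/-- the Schur multiplier predicate is invariant under isomorphism. -/
theorem hasSchurMultiplier_of_mulEquiv {G G' : Type u} [Group G] [Group G'] (e : G ≃* G')
    {A : Type*} [CommGroup A] (h : Cfsg.HasSchurMultiplier G A) : Cfsg.HasSchurMultiplier G' A := by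
  obtain ⟨⟨Γ, iG, iF, σ, hσ, ⟨φ⟩⟩, h2⟩ := h
  refine ⟨⟨Γ, iG, iF, e.toMonoidHom.comp σ, isStemExtension_comp_mulEquiv σ e hσ, ?_⟩, ?_⟩
  · exact ⟨(MulEquiv.subgroupCongr (ker_comp_mulEquiv' σ e)).trans φ⟩
  · intro Γ _ _ σ' hσ'
    obtain ⟨π, hπ⟩ := h2 Γ (e.symm.toMonoidHom.comp σ')
      (isStemExtension_comp_mulEquiv σ' e.symm hσ')
    let ψ := MulEquiv.subgroupCongr (ker_comp_mulEquiv' σ' e.symm)
    exact ⟨ψ.toMonoidHom.comp π, ψ.surjective.comp hπ⟩

end transport


section bridge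

variable {Γ : Type*} [Group Γ]

theorem iotaC_mem {kk : ℕ} (g : Fin kk → Γ) (hcomm : ∀ i j, Commute (g i) (g j)) (K : Subgroup Γ)
    (h : ∀ c, g c ∈ K) (c : CG kk) : iotaC g hcomm c ∈ K := by
  unfold iotaC
  rw [MonoidHom.noncommPiCoprod_apply]
  apply Subgroup.noncommProd_mem
  intro i _
  simp only [zpowersHom_apply]
  exact K.zpow_mem (h i) _

/-- `|Γ| ≤ N * n` from a closed labelled table whose labels all lie in `⟨a⟩`, `a ^ n = 1`. -/
theorem card_le_of_factL (a b : Γ) (hgen : Subgroup.closure {a, b} = (⊤ : Subgroup Γ))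
    {C : Type*} [CommGroup C] (ι : C →* Γ) (gen : ℕ → C)
    {N md mdcr kk M Mb B BA md2 nrots : ℕ} {inv : ℕ → ℕ} {rots : ℕ → List ℕ × ℕ × ℕ}
    {subsC : ℕ → List ℕ × ℕ × List ℕ × ℕ} {ent : ℕ → ℕ → ℕ} {par plet : ℕ → ℕ}
    (S : SemL N 4 md2 kk M Mb B BA inv nrots rots subsC (gc2 a b) ι gen)
    (hcl : ∀ i l, i < N → l < 4 → FactL (gc2 a b) ι gen N md mdcr kk M Mb B ent par plet i l)
    (n : ℕ) (hn : 0 < n) (ha : a ^ n = 1) (hι : ∀ c, ι c ∈ Subgroup.zpowers a) :
    Finite Γ ∧ Nat.card Γ ≤ N * n := by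
  have hgen' : Subgroup.closure {g : Γ | ∃ l, l < 4 ∧ g = gc2 a b l} = ⊤ := by
    rw [closure_gc2, hgen]
  have hex := exists_repL S hgen' hcl
  let f : Fin N × Fin n → Γ := fun p => repL (gc2 a b) par plet (p.1 : ℕ) * a ^ (p.2 : ℕ)
  have hf : Function.Surjective f := by
    intro g
    obtain ⟨i, hi, c, rfl⟩ := hex g
    obtain ⟨k, hk⟩ := Subgroup.mem_zpowers_iff.mp (hι c)
    have hn' : (n : ℤ) ≠ 0 := by exact_mod_cast hn.ne'
    have h0 : 0 ≤ k % (n : ℤ) := Int.emod_nonneg k hn'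
    have h1 : k % (n : ℤ) < n := Int.emod_lt_of_pos k (by exact_mod_cast hn)
    have han : a ^ (n : ℤ) = 1 := by rw [zpow_natCast]; exact ha
    have h2 : a ^ k = a ^ (k % (n : ℤ)) := zpow_eq_zpow_emod k han
    refine ⟨(⟨i, hi⟩, ⟨(k % (n : ℤ)).toNat, by omega⟩), ?_⟩
    show repL (gc2 a b) par plet i * a ^ ((k % (n : ℤ)).toNat) = _
    rw [← hk, h2, ← zpow_natCast, Int.toNat_of_nonneg h0]
  have hfin : Finite Γ := Finite.of_surjective f hf
  refine ⟨hfin, ?_⟩
  have := Nat.card_le_card_of_surjective f hf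
  rwa [Nat.card_prod, Nat.card_fin, Nat.card_fin] at this

/-- a verified face gives a relation of the family. -/
theorem psi_eq_one_of_face {kk : ℕ} (g : Fin kk → Γ) (hcomm : ∀ i j, Commute (g i) (g j))
    (B n : ℕ) (E : List ℕ) (hE : E.length = kk) (c : Fin kk) (lamv : Fin kk → ℤ)
    (hface : iotaC g hcomm (genC kk (c : ℕ)) = iotaC g hcomm (dsem (genC kk) B n 0 E))
    (hlam : lamv = digitVec kk B n E - Pi.single c 1) : Psi g hcomm lamv = 1 := by
  rw [hlam, Psi_sub, Psi_single]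
  unfold Psi
  rw [← dsem_genC _ _ _ _ hE, ← hface, iotaC_genC, mul_inv_cancel]

theorem gc2_invF (a b : Γ) (invF : ℕ → ℕ) (h : ∀ l, l < 4 → invF l = inv4 l) :
    ∀ l, l < 4 → gc2 a b (invF l) = (gc2 a b l)⁻¹ := by
  intro l hl
  rw [h l hl]
  exact gc2_inv a b l hl

/-- the relator hypothesis of the generated packages, for the family `gfam`. -/
theorem bridge_rels (a b : Γ) (rels : List (List ℕ)) (kk : ℕ) (hkk : rels.length + 1 ≤ kk)
    (hcen : ∀ ρ g, Commute (prodw (gc2 a b) (rels.getD ρ [])) g) :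
    ∀ ρ, ρ < rels.length → prodw (gc2 a b) (rels.getD ρ []) =
        iotaC (gfam a b rels kk) (gfam_comm a b rels kk hcen) (genC kk (1 + ρ)) ∧
      ∀ g : Γ, Commute (prodw (gc2 a b) (rels.getD ρ [])) g := by
  intro ρ hρ
  refine ⟨?_, hcen ρ⟩
  have hlt : 1 + ρ < kk := by omega
  have := iotaC_genC (gfam a b rels kk) (gfam_comm a b rels kk hcen) ⟨1 + ρ, hlt⟩
  rw [show ((⟨1 + ρ, hlt⟩ : Fin kk) : ℕ) = 1 + ρ from rfl] at this
  rw [this]
  unfold gfam
  have hne : ((⟨1 + ρ, hlt⟩ : Fin kk) : ℕ) ≠ 0 := by simp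
  rw [if_neg hne]
  simp

/-- the subgroup-word hypothesis of the generated packages (the subgroup `⟨a⟩`). -/
theorem bridge_subs (a b : Γ) (rels : List (List ℕ)) (kk : ℕ) (hkk : 1 ≤ kk)
    (hcen : ∀ ρ g, Commute (prodw (gc2 a b) (rels.getD ρ [])) g) :
    ∀ s, s < ([[0]] : List (List ℕ)).length → prodw (gc2 a b) (([[0]] : List (List ℕ)).getD s []) =
        iotaC (gfam a b rels kk) (gfam_comm a b rels kk hcen) (genC kk s) := by
  intro s hs
  have hs0 : s = 0 := by simpa using hs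
  subst hs0
  have hlt : 0 < kk := by omega
  have := iotaC_genC (gfam a b rels kk) (gfam_comm a b rels kk hcen) ⟨0, hlt⟩
  rw [show ((⟨0, hlt⟩ : Fin kk) : ℕ) = 0 from rfl] at this
  rw [this]
  simp [gfam, prodw, gc2]

end bridge

end Cfsg.Agent.Helper19.Schur
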