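import Mathlib
import Cfsg.Agent.Helper19.TCR.Model

/-! The existence half from a checked `ℤ/d`-labelled coset table: the central extension realised
inside `G × Sym(Fin N × ZMod d)` is a stem extension with kernel cyclic of order `d`. -/

set_option autoImplicit false
set_option linter.all false

namespace Cfsg.Agent.Helper19.Schur

open Cfsg.Agent.Helper19.TCS Cfsg.Agent.Helper19.TCM

universe u

section general

theorem prod_zpow_eq_zpow_sum {ι : Type*} [Fintype ι] {Q : Type*} [CommGroup Q] (a : Q)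
    (f : ι → ℤ) : ∏ c, a ^ f c = a ^ ∑ c, f c := by
  classical
  have key : ∀ S : Finset ι, ∏ c ∈ S, a ^ f c = a ^ ∑ c ∈ S, f c := by
    intro S
    induction S using Finset.induction_on with
    | empty => simp
    | insert i S hi ih => rw [Finset.prod_insert hi, Finset.sum_insert hi, ih, zpow_add]
  exact key _

theorem prodw_prodGroup {G P : Type*} [Group G] [Group P] (x y : G) (a b : P) (w : List ℕ) :
    prodw (gc2 ((x, a) : G × P) (y, b)) w = (prodw (gc2 x y) w, prodw (gc2 a b) w) := by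
  apply Prod.ext
  · exact map_prodw (MonoidHom.fst _ _) (x, a) (y, b) w
  · exact map_prodw (MonoidHom.snd _ _) (x, a) (y, b) w

theorem prodw_mem_closure {Γ : Type*} [Group Γ] (A B : Γ) (w : List ℕ) :
    prodw (gc2 A B) w ∈ Subgroup.closure ({A, B} : Set Γ) := by
  have hA : A ∈ Subgroup.closure ({A, B} : Set Γ) := Subgroup.subset_closure (by simp)
  have hB : B ∈ Subgroup.closure ({A, B} : Set Γ) := Subgroup.subset_closure (by simp)
  induction w with
  | nil => exact one_mem _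
  | cons l w ih =>
    rw [prodw]
    apply mul_mem ih
    unfold gc2
    split
    · exact hA
    · exact inv_mem hA
    · exact hB
    · exact inv_mem hB
    · exact one_mem _

/-- a two-generator group whose relator values are powers of a central element `Z` of order
dividing `d` is perfect, provided the exponents are normalised. -/
theorem commutator_eq_top_of_relations {Γ : Type*} [Group Γ] (A B Z : Γ)
    (hgen : Subgroup.closure {A, B} = (⊤ : Subgroup Γ)) (d : ℕ) (hZd : Z ^ d = 1)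
    (rels : List (List ℕ)) (phis : List ℕ)
    (hrel : ∀ ρ, prodw (gc2 A B) (rels.getD ρ []) = Z ^ (phis.getD ρ 0))
    (kk : ℕ) (e1 e2 c1 c2 : Fin kk → ℤ)
    (he1 : ∀ c : Fin kk, e1 c = if (c : ℕ) = 0 then 0 else es0 (rels.getD ((c : ℕ) - 1) []))
    (he2 : ∀ c : Fin kk, e2 c = if (c : ℕ) = 0 then 0 else es1 (rels.getD ((c : ℕ) - 1) []))
    (hc1 : Efun e1 c1 = 1 ∧ Efun e2 c1 = 0) (hc2 : Efun e1 c2 = 0 ∧ Efun e2 c2 = 1)
    (hφ1 : (d : ℤ) ∣ ∑ c : Fin kk, c1 c * (if (c : ℕ) = 0 then 0 else (phis.getD ((c : ℕ) - 1) 0 : ℤ)))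
    (hφ2 : (d : ℤ) ∣ ∑ c : Fin kk, c2 c * (if (c : ℕ) = 0 then 0 else (phis.getD ((c : ℕ) - 1) 0 : ℤ))) :
    commutator Γ = ⊤ := by
  set π : Γ →* Abelianization Γ := Abelianization.of with hπ
  set a := π A with ha
  set b := π B with hb
  set z := π Z with hz
  have hzd : z ^ d = 1 := by rw [hz, ← map_pow, hZd, map_one]
  set φ : Fin kk → ℤ := fun c => if (c : ℕ) = 0 then 0 else (phis.getD ((c : ℕ) - 1) 0 : ℤ) with hφ
  have hF : ∀ c : Fin kk, a ^ e1 c * b ^ e2 c = z ^ φ c := by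
    intro c
    by_cases hc : (c : ℕ) = 0
    · rw [he1, he2, hφ]
      simp only [if_pos hc, zpow_zero, mul_one]
    · rw [he1, he2, hφ]
      simp only [if_neg hc]
      rw [← prodw_comm, ha, hb, ← map_prodw, hrel, map_pow, zpow_natCast]
  have hzv : ∀ v : Fin kk → ℤ, (d : ℤ) ∣ ∑ c, v c * φ c → ∏ c, (z ^ φ c) ^ v c = 1 := by
    intro v hv
    obtain ⟨m, hm⟩ := hv
    have : ∀ c, (z ^ φ c) ^ v c = z ^ (v c * φ c) := fun c => by rw [← zpow_mul, mul_comm]
    simp only [this]
    rw [prod_zpow_eq_zpow_sum, hm, zpow_mul, zpow_natCast, hzd, one_zpow]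
  have hab : ∀ v : Fin kk → ℤ, ∏ c, (a ^ e1 c * b ^ e2 c) ^ v c = a ^ Efun e1 v * b ^ Efun e2 v := by
    intro v
    have : ∀ c, (a ^ e1 c * b ^ e2 c) ^ v c = a ^ (v c * e1 c) * b ^ (v c * e2 c) := fun c => by
      rw [mul_zpow, ← zpow_mul, ← zpow_mul, mul_comm (e1 c), mul_comm (e2 c)]
    simp only [this]
    rw [Finset.prod_mul_distrib, prod_zpow_eq_zpow_sum, prod_zpow_eq_zpow_sum]
    rfl
  have ha1 : a = 1 := by
    have h1 := hab c1
    rw [hc1.1, hc1.2, zpow_one, zpow_zero, mul_one] at h1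
    rw [← h1]
    simp only [hF]
    exact hzv c1 hφ1
  have hb1 : b = 1 := by
    have h1 := hab c2
    rw [hc2.1, hc2.2, zpow_one, zpow_zero, one_mul] at h1
    rw [← h1]
    simp only [hF]
    exact hzv c2 hφ2
  -- the abelianisation map kills the generators, hence everything
  rw [eq_top_iff]
  intro g _
  have hg : g ∈ Subgroup.closure ({A, B} : Set Γ) := by rw [hgen]; trivial
  have hle : Subgroup.closure ({A, B} : Set Γ) ≤ π.ker := by
    rw [Subgroup.closure_le]
    rintro g (rfl | rfl)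
    · exact MonoidHom.mem_ker.mpr ha1
    · exact MonoidHom.mem_ker.mpr hb1
  have := hle hg
  rw [hπ, Abelianization.ker_of] at this
  exact this

/-- the trivial extension, for trivial multipliers. -/
theorem exists_stem_trivial (G : Type u) [Group G] [Finite G] :
    ∃ (Γ : Type u) (_ : Group Γ) (_ : Finite Γ) (σ : Γ →* G),
      Cfsg.IsStemExtension σ ∧ Nonempty (σ.ker ≃* Multiplicative (ZMod 1)) := by
  refine ⟨G, inferInstance, inferInstance, MonoidHom.id G, ⟨fun g => ⟨g, rfl⟩, ?_, ?_⟩, ?_⟩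
  · rw [MonoidHom.ker_id]; exact bot_le
  · rw [MonoidHom.ker_id]; exact bot_le
  · rw [MonoidHom.ker_id]
    haveI : Unique (Multiplicative (ZMod 1)) := inferInstanceAs (Unique (ZMod 1))
    exact ⟨MulEquiv.ofUnique⟩

end general


section table

variable {N md d : ℕ} {inv : ℕ → ℕ} {ent : ℕ → ℕ → ℕ}

/-- a checked `ℤ/d`-labelled coset table gives the existence half. -/
theorem exists_stem_of_table {G : Type u} [Group G] [Finite G] (x y : G)
    (hxy : Subgroup.closure {x, y} = (⊤ : Subgroup G)) (rels : List (List ℕ))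
    (hT1 : ∀ (Δ : Type u) [Group Δ] (a b : Δ), Subgroup.closure {a, b} = (⊤ : Subgroup Δ) →
      (∀ w ∈ rels, prodw (gc2 a b) w = 1) → Finite Δ ∧ Nat.card Δ ≤ Nat.card G)
    (hrel : ∀ w ∈ rels, prodw (gc2 x y) w = 1)
    (H : ModelOK N md d inv ent) (hd : 0 < d) (phis : List ℕ) (hlen : phis.length = rels.length)
    (hw4 : ∀ w ∈ rels, ∀ l ∈ w, l < 4)
    (hrelM : ∀ i, i < N → okRelsM md d ent (rels.zip phis) i = true)
    (kk : ℕ) (e1 e2 c1 c2 : Fin kk → ℤ)
    (he1 : ∀ c : Fin kk, e1 c = if (c : ℕ) = 0 then 0 else es0 (rels.getD ((c : ℕ) - 1) []))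
    (he2 : ∀ c : Fin kk, e2 c = if (c : ℕ) = 0 then 0 else es1 (rels.getD ((c : ℕ) - 1) []))
    (hc1 : Efun e1 c1 = 1 ∧ Efun e2 c1 = 0) (hc2 : Efun e1 c2 = 0 ∧ Efun e2 c2 = 1)
    (hφ1 : (d : ℤ) ∣ ∑ c : Fin kk, c1 c * (if (c : ℕ) = 0 then 0 else (phis.getD ((c : ℕ) - 1) 0 : ℤ)))
    (hφ2 : (d : ℤ) ∣ ∑ c : Fin kk, c2 c * (if (c : ℕ) = 0 then 0 else (phis.getD ((c : ℕ) - 1) 0 : ℤ)))
    (zs : List ℕ) (hzs : (zs.map (fun ρ => phis.getD ρ 0)).sum % d = 1 % d) :
    ∃ (Γ : Type u) (_ : Group Γ) (_ : Finite Γ) (σ : Γ →* G),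
      Cfsg.IsStemExtension σ ∧ Nonempty (σ.ker ≃* Multiplicative (ZMod d)) := by
  haveI : NeZero d := ⟨hd.ne'⟩
  set At : G × Equiv.Perm (Fin N × ZMod d) := (x, permA H) with hAt
  set Bt : G × Equiv.Perm (Fin N × ZMod d) := (y, permB H) with hBt
  -- relator values
  have hrelv : ∀ ρ, prodw (gc2 At Bt) (rels.getD ρ []) =
      ((1 : G), transl N d ((phis.getD ρ 0 : ℕ) : ZMod d)) := by
    intro ρ
    rw [hAt, hBt, prodw_prodGroup]
    by_cases hρ : ρ < rels.length
    · have hρ' : ρ < phis.length := hlen ▸ hρ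
      rw [List.getD_eq_getElem _ _ hρ, List.getD_eq_getElem _ _ hρ', hrel _ (List.getElem_mem _)]
      congr 1
      apply prodw_eq_transl H (hw4 _ (List.getElem_mem _))
      intro i hi
      have hz : ρ < (rels.zip phis).length := by
        rw [List.length_zip]; omega
      have hm : (rels.zip phis)[ρ] ∈ rels.zip phis := List.getElem_mem hz
      rw [List.getElem_zip] at hm
      exact okRelsM_spec i _ (hrelM i hi) (rels[ρ], phis[ρ]) hm
    · have hρ' : phis.length ≤ ρ := by omega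
      rw [List.getD_eq_default _ _ (not_lt.mp hρ), List.getD_eq_default _ _ hρ']
      simp only [prodw, Nat.cast_zero, transl_zero]
  -- the central element
  have hZmem : ∀ zs : List ℕ,
      ((1 : G), transl N d (((zs.map (fun ρ => phis.getD ρ 0)).sum : ℕ) : ZMod d)) ∈
        Subgroup.closure ({At, Bt} : Set (G × Equiv.Perm (Fin N × ZMod d))) := by
    intro zs
    induction zs with
    | nil =>
      simp only [List.map_nil, List.sum_nil, Nat.cast_zero, transl_zero]
      exact one_mem _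
    | cons ρ zs ih =>
      rw [List.map_cons, List.sum_cons, Nat.cast_add, transl_add]
      have h1 := prodw_mem_closure At Bt (rels.getD ρ [])
      rw [hrelv ρ] at h1
      have := mul_mem h1 ih
      rw [Prod.mk_mul_mk, mul_one] at this
      exact this
  have hZt : ((1 : G), transl N d (1 : ZMod d)) ∈
      Subgroup.closure ({At, Bt} : Set (G × Equiv.Perm (Fin N × ZMod d))) := by
    have h1 := hZmem zs
    have h2 : (((zs.map (fun ρ => phis.getD ρ 0)).sum : ℕ) : ZMod d) = ((1 : ℕ) : ZMod d) :=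
      (ZMod.natCast_eq_natCast_iff' _ _ _).mpr hzs
    rw [h2, Nat.cast_one] at h1
    exact h1
  -- pass to the subgroup
  have hgen := closure_pair_subtype At Bt
  obtain ⟨A, hA⟩ : ∃ A : ↥(Subgroup.closure ({At, Bt} : Set (G × Equiv.Perm (Fin N × ZMod d)))),
      A = ⟨At, Subgroup.subset_closure (by simp)⟩ := ⟨_, rfl⟩
  obtain ⟨B, hB⟩ : ∃ B : ↥(Subgroup.closure ({At, Bt} : Set (G × Equiv.Perm (Fin N × ZMod d)))),
      B = ⟨Bt, Subgroup.subset_closure (by simp)⟩ := ⟨_, rfl⟩
  rw [← hA, ← hB] at hgen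
  have hAv : (A : G × Equiv.Perm (Fin N × ZMod d)) = At := by rw [hA]
  have hBv : (B : G × Equiv.Perm (Fin N × ZMod d)) = Bt := by rw [hB]
  obtain ⟨Z, hZ⟩ : ∃ Z : ↥(Subgroup.closure ({At, Bt} : Set (G × Equiv.Perm (Fin N × ZMod d)))),
      Z = ⟨((1 : G), transl N d (1 : ZMod d)), hZt⟩ := ⟨_, rfl⟩
  have hZv : (Z : G × Equiv.Perm (Fin N × ZMod d)) = ((1 : G), transl N d (1 : ZMod d)) := by rw [hZ]
  have hval : ∀ w, ((prodw (gc2 A B) w :
      ↥(Subgroup.closure ({At, Bt} : Set (G × Equiv.Perm (Fin N × ZMod d))))) :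
      G × Equiv.Perm (Fin N × ZMod d)) = prodw (gc2 At Bt) w := by
    intro w
    have := map_prodw (Subgroup.closure ({At, Bt} :
      Set (G × Equiv.Perm (Fin N × ZMod d)))).subtype A B w
    simpa [hAv, hBv] using this
  set τ : ↥(Subgroup.closure ({At, Bt} : Set (G × Equiv.Perm (Fin N × ZMod d)))) →* G :=
    (MonoidHom.fst G _).comp (Subgroup.subtype _) with hτ
  have hτA : τ A = x := by rw [hτ, MonoidHom.comp_apply, Subgroup.coe_subtype, hAv]; rfl
  have hτB : τ B = y := by rw [hτ, MonoidHom.comp_apply, Subgroup.coe_subtype, hBv]; rfl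
  have hsurj : Function.Surjective τ := by
    rw [← MonoidHom.range_eq_top, eq_top_iff, ← hxy, Subgroup.closure_le]
    rintro g (rfl | rfl)
    · exact ⟨_, hτA⟩
    · exact ⟨_, hτB⟩
  have hZpow : ∀ k : ℕ, ((Z ^ k : ↥(Subgroup.closure ({At, Bt} :
      Set (G × Equiv.Perm (Fin N × ZMod d))))) : G × Equiv.Perm (Fin N × ZMod d)) =
      ((1 : G), transl N d (k : ZMod d)) := by
    intro k
    rw [Subgroup.coe_pow, hZv, Prod.pow_mk, one_pow, transl_natCast_pow]
  have hrelZ : ∀ ρ, prodw (gc2 A B) (rels.getD ρ []) = Z ^ (phis.getD ρ 0) := by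
    intro ρ
    apply Subtype.ext
    rw [hval, hrelv, hZpow]
  have hZd : Z ^ d = 1 := by
    apply Subtype.ext
    rw [hZpow, ZMod.natCast_self, transl_zero]
    rfl
  have hord : orderOf Z = d := by
    rw [← Subgroup.orderOf_coe, hZv, Prod.orderOf_mk, orderOf_one, orderOf_transl_one H.hN hd,
      Nat.lcm_one_left]
  have hcomm : ∀ l, l < 4 → Commute (Z : G × Equiv.Perm (Fin N × ZMod d)) (gc2 At Bt l) := by
    intro l hl
    rw [hZv]
    have h2 := (transl_comm_gen H (1 : ZMod d) hl).eq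
    have h3 : gc2 At Bt l = (gc2 x y l, gc2 (permA H) (permB H) l) := by
      rw [hAt, hBt]
      interval_cases l <;> rfl
    rw [h3]
    show ((1 : G), transl N d (1 : ZMod d)) * _ = _ * ((1 : G), transl N d (1 : ZMod d))
    rw [Prod.mk_mul_mk, Prod.mk_mul_mk, one_mul, mul_one, h2]
  have h := stem_of_central_cyclic rels hT1 τ hsurj A B Z hgen
    (by rw [hτ, MonoidHom.comp_apply, Subgroup.coe_subtype, hZv]; rfl) d hord
    (by
      have := (hcomm 0 (by norm_num)).eq
      exact Subtype.ext (by rw [Subgroup.coe_mul, Subgroup.coe_mul, hAv]; exact this))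
    (by
      have := (hcomm 2 (by norm_num)).eq
      exact Subtype.ext (by rw [Subgroup.coe_mul, Subgroup.coe_mul, hBv]; exact this))
    (by
      intro w hw
      obtain ⟨ρ, hρ, rfl⟩ := List.getElem_of_mem hw
      have := hrelZ ρ
      rw [List.getD_eq_getElem _ _ hρ] at this
      rw [this]
      exact Subgroup.pow_mem _ (Subgroup.mem_zpowers Z) _)
    (by
      rw [commutator_eq_top_of_relations A B Z hgen d hZd rels phis hrelZ kk e1 e2 c1 c2 he1 he2
        hc1 hc2 hφ1 hφ2]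
      trivial)
  exact ⟨_, inferInstance, inferInstance, τ, h⟩

end table

end Cfsg.Agent.Helper19.Schur
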