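import Mathlib

/-! Sums over `Fin n` written out, for `9 ≤ n ≤ 24` (Mathlib stops at eight). -/

set_option autoImplicit false
set_option linter.all false

namespace Cfsg.Agent.Helper19.Schur

theorem sum_univ_nine {M : Type*} [AddCommMonoid M] (f : Fin 9 → M) :
    ∑ i, f i = f 0 + f 1 + f 2 + f 3 + f 4 + f 5 + f 6 + f 7 + f 8 := by
  rw [Fin.sum_univ_castSucc, Fin.sum_univ_eight]
  rfl

theorem sum_univ_ten {M : Type*} [AddCommMonoid M] (f : Fin 10 → M) :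
    ∑ i, f i = f 0 + f 1 + f 2 + f 3 + f 4 + f 5 + f 6 + f 7 + f 8 + f 9 := by
  rw [Fin.sum_univ_castSucc, sum_univ_nine]
  rfl

theorem sum_univ_eleven {M : Type*} [AddCommMonoid M] (f : Fin 11 → M) :
    ∑ i, f i = f 0 + f 1 + f 2 + f 3 + f 4 + f 5 + f 6 + f 7 + f 8 + f 9 + f 10 := by
  rw [Fin.sum_univ_castSucc, sum_univ_ten]
  rfl

theorem sum_univ_twelve {M : Type*} [AddCommMonoid M] (f : Fin 12 → M) :
    ∑ i, f i = f 0 + f 1 + f 2 + f 3 + f 4 + f 5 + f 6 + f 7 + f 8 + f 9 + f 10 + f 11 := by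
  rw [Fin.sum_univ_castSucc, sum_univ_eleven]
  rfl

theorem sum_univ_thirteen {M : Type*} [AddCommMonoid M] (f : Fin 13 → M) :
    ∑ i, f i = f 0 + f 1 + f 2 + f 3 + f 4 + f 5 + f 6 + f 7 + f 8 + f 9 + f 10 + f 11 + f 12 := by
  rw [Fin.sum_univ_castSucc, sum_univ_twelve]
  rfl

theorem sum_univ_fourteen {M : Type*} [AddCommMonoid M] (f : Fin 14 → M) :
    ∑ i, f i = f 0 + f 1 + f 2 + f 3 + f 4 + f 5 + f 6 + f 7 + f 8 + f 9 + f 10 + f 11 + f 12 + f 13 := by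
  rw [Fin.sum_univ_castSucc, sum_univ_thirteen]
  rfl

theorem sum_univ_fifteen {M : Type*} [AddCommMonoid M] (f : Fin 15 → M) :
    ∑ i, f i = f 0 + f 1 + f 2 + f 3 + f 4 + f 5 + f 6 + f 7 + f 8 + f 9 + f 10 + f 11 + f 12 + f 13 + f 14 := by
  rw [Fin.sum_univ_castSucc, sum_univ_fourteen]
  rfl

theorem sum_univ_sixteen {M : Type*} [AddCommMonoid M] (f : Fin 16 → M) :
    ∑ i, f i = f 0 + f 1 + f 2 + f 3 + f 4 + f 5 + f 6 + f 7 + f 8 + f 9 + f 10 + f 11 + f 12 + f 13 + f 14 + f 15 := by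
  rw [Fin.sum_univ_castSucc, sum_univ_fifteen]
  rfl

theorem sum_univ_seventeen {M : Type*} [AddCommMonoid M] (f : Fin 17 → M) :
    ∑ i, f i = f 0 + f 1 + f 2 + f 3 + f 4 + f 5 + f 6 + f 7 + f 8 + f 9 + f 10 + f 11 + f 12 + f 13 + f 14 + f 15 + f 16 := by
  rw [Fin.sum_univ_castSucc, sum_univ_sixteen]
  rfl

theorem sum_univ_eighteen {M : Type*} [AddCommMonoid M] (f : Fin 18 → M) :
    ∑ i, f i = f 0 + f 1 + f 2 + f 3 + f 4 + f 5 + f 6 + f 7 + f 8 + f 9 + f 10 + f 11 + f 12 + f 13 + f 14 + f 15 + f 16 + f 17 := by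
  rw [Fin.sum_univ_castSucc, sum_univ_seventeen]
  rfl

theorem sum_univ_nineteen {M : Type*} [AddCommMonoid M] (f : Fin 19 → M) :
    ∑ i, f i = f 0 + f 1 + f 2 + f 3 + f 4 + f 5 + f 6 + f 7 + f 8 + f 9 + f 10 + f 11 + f 12 + f 13 + f 14 + f 15 + f 16 + f 17 + f 18 := by
  rw [Fin.sum_univ_castSucc, sum_univ_eighteen]
  rfl

theorem sum_univ_twenty {M : Type*} [AddCommMonoid M] (f : Fin 20 → M) :
    ∑ i, f i = f 0 + f 1 + f 2 + f 3 + f 4 + f 5 + f 6 + f 7 + f 8 + f 9 + f 10 + f 11 + f 12 + f 13 + f 14 + f 15 + f 16 + f 17 + f 18 + f 19 := by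
  rw [Fin.sum_univ_castSucc, sum_univ_nineteen]
  rfl

theorem sum_univ_twentyone {M : Type*} [AddCommMonoid M] (f : Fin 21 → M) :
    ∑ i, f i = f 0 + f 1 + f 2 + f 3 + f 4 + f 5 + f 6 + f 7 + f 8 + f 9 + f 10 + f 11 + f 12 + f 13 + f 14 + f 15 + f 16 + f 17 + f 18 + f 19 + f 20 := by
  rw [Fin.sum_univ_castSucc, sum_univ_twenty]
  rfl

theorem sum_univ_twentytwo {M : Type*} [AddCommMonoid M] (f : Fin 22 → M) :
    ∑ i, f i = f 0 + f 1 + f 2 + f 3 + f 4 + f 5 + f 6 + f 7 + f 8 + f 9 + f 10 + f 11 + f 12 + f 13 + f 14 + f 15 + f 16 + f 17 + f 18 + f 19 + f 20 + f 21 := by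
  rw [Fin.sum_univ_castSucc, sum_univ_twentyone]
  rfl

theorem sum_univ_twentythree {M : Type*} [AddCommMonoid M] (f : Fin 23 → M) :
    ∑ i, f i = f 0 + f 1 + f 2 + f 3 + f 4 + f 5 + f 6 + f 7 + f 8 + f 9 + f 10 + f 11 + f 12 + f 13 + f 14 + f 15 + f 16 + f 17 + f 18 + f 19 + f 20 + f 21 + f 22 := by
  rw [Fin.sum_univ_castSucc, sum_univ_twentytwo]
  rfl

theorem sum_univ_twentyfour {M : Type*} [AddCommMonoid M] (f : Fin 24 → M) :
    ∑ i, f i = f 0 + f 1 + f 2 + f 3 + f 4 + f 5 + f 6 + f 7 + f 8 + f 9 + f 10 + f 11 + f 12 + f 13 + f 14 + f 15 + f 16 + f 17 + f 18 + f 19 + f 20 + f 21 + f 22 + f 23 := by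
  rw [Fin.sum_univ_castSucc, sum_univ_twentythree]
  rfl

end Cfsg.Agent.Helper19.Schur
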