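import Mathlib
import Cfsg.Agent.Helper27.M12Out
import Cfsg.Agent.Helper19.Schur.Cover

/-! Words in two permutations of the 24 Golay points, evaluated on tables (helper27's `Represents`
machinery), also for pairs of permutations. -/

set_option autoImplicit false
set_option linter.all false

namespace Cfsg.Agent.Helper19.Schur

open Cfsg Cfsg.Agent.Helper27 Cfsg.Agent.Helper19.TCS
open scoped commutatorElement

/-- the table of a letter. -/
def letterT (X Xi Y Yi : List ℕ) (l : ℕ) : List ℕ :=
  match l with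
  | 0 => X
  | 1 => Xi
  | 2 => Y
  | 3 => Yi
  | _ => idT

/-- the table of a word. -/
def prodT (X Xi Y Yi : List ℕ) : List ℕ → List ℕ
  | [] => idT
  | l :: w => compT (prodT X Xi Y Yi w) (letterT X Xi Y Yi l)

section one

variable {p q : Equiv.Perm GolayPt} {X Xi Y Yi : List ℕ}

theorem represents_gc2 (hp : Represents p X) (hpi : Represents (p⁻¹ : Equiv.Perm GolayPt) Xi)
    (hq : Represents q Y) (hqi : Represents (q⁻¹ : Equiv.Perm GolayPt) Yi) (l : ℕ) :
    Represents (gc2 p q l : Equiv.Perm GolayPt) (letterT X Xi Y Yi l) := by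
  match l with
  | 0 => exact hp
  | 1 => exact hpi
  | 2 => exact hq
  | 3 => exact hqi
  | (n + 4) => exact represents_one

theorem represents_prodw (hp : Represents p X) (hpi : Represents (p⁻¹ : Equiv.Perm GolayPt) Xi)
    (hq : Represents q Y) (hqi : Represents (q⁻¹ : Equiv.Perm GolayPt) Yi) (w : List ℕ) :
    Represents (prodw (gc2 p q) w : Equiv.Perm GolayPt) (prodT X Xi Y Yi w) := by
  induction w with
  | nil => exact represents_one
  | cons l w ih => exact represents_compT ih (represents_gc2 hp hpi hq hqi l)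

theorem prodw_eq_of_prodT (hp : Represents p X) (hpi : Represents (p⁻¹ : Equiv.Perm GolayPt) Xi)
    (hq : Represents q Y) (hqi : Represents (q⁻¹ : Equiv.Perm GolayPt) Yi) {w1 w2 : List ℕ}
    (h : prodT X Xi Y Yi w1 = prodT X Xi Y Yi w2) : prodw (gc2 p q) w1 = prodw (gc2 p q) w2 := by
  have h1 := represents_prodw hp hpi hq hqi w1
  have h2 := represents_prodw hp hpi hq hqi w2
  rw [h] at h1
  exact represents_inj h1 h2

/-- the inverse of a permutation from a table of the inverse. -/
theorem represents_inv_of_compT (hp : Represents p X) (hv : validTbl Xi = true)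
    (h : compT X Xi = idT) : Represents (p⁻¹ : Equiv.Perm GolayPt) Xi := by
  have h1 := represents_compT hp (tblPerm_represents Xi hv)
  rw [h] at h1
  have h2 : p * tblPerm Xi hv = 1 := represents_inj h1 represents_one
  have h3 : p⁻¹ = tblPerm Xi hv := inv_eq_of_mul_eq_one_right h2
  rw [h3]
  exact tblPerm_represents _ _

end one

section pair

variable {p q p' q' : Equiv.Perm GolayPt} {X Xi Y Yi X' Xi' Y' Yi' : List ℕ}

theorem prodw_pair (p q p' q' : Equiv.Perm GolayPt) (w : List ℕ) :
    prodw (gc2 ((p, p') : Equiv.Perm GolayPt × Equiv.Perm GolayPt) (q, q')) w =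
      (prodw (gc2 p q) w, prodw (gc2 p' q') w) := by
  apply Prod.ext
  · exact map_prodw (MonoidHom.fst _ _) (p, p') (q, q') w
  · exact map_prodw (MonoidHom.snd _ _) (p, p') (q, q') w

theorem pair_eq_of_prodT (hp : Represents p X) (hpi : Represents (p⁻¹ : Equiv.Perm GolayPt) Xi)
    (hq : Represents q Y) (hqi : Represents (q⁻¹ : Equiv.Perm GolayPt) Yi)
    (hp' : Represents p' X') (hpi' : Represents (p'⁻¹ : Equiv.Perm GolayPt) Xi')
    (hq' : Represents q' Y') (hqi' : Represents (q'⁻¹ : Equiv.Perm GolayPt) Yi') {w1 w2 : List ℕ}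
    (h : prodT X Xi Y Yi w1 = prodT X Xi Y Yi w2)
    (h' : prodT X' Xi' Y' Yi' w1 = prodT X' Xi' Y' Yi' w2) :
    prodw (gc2 ((p, p') : Equiv.Perm GolayPt × Equiv.Perm GolayPt) (q, q')) w1 =
      prodw (gc2 ((p, p') : Equiv.Perm GolayPt × Equiv.Perm GolayPt) (q, q')) w2 := by
  rw [prodw_pair, prodw_pair, prodw_eq_of_prodT hp hpi hq hqi h,
    prodw_eq_of_prodT hp' hpi' hq' hqi' h']

end pair

section words

variable {Γ : Type*} [Group Γ]

theorem commutatorElement_eq_of_mul_eq {g h z : Γ} (e : g * h = z * h * g) : ⁅g, h⁆ = z := by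
  rw [commutatorElement_def, e]
  group

theorem prodw_append' (gc : ℕ → Γ) (u v : List ℕ) : prodw gc (u ++ v) = prodw gc v * prodw gc u :=
  prodw_append gc u v

end words

end Cfsg.Agent.Helper19.Schur
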